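import Groth.Agent.Approx.Extend.Glue

/-!
# Charts extending the stages of a system over an affine open
-/

set_option autoImplicit false
set_option backward.isDefEq.respectTransparency false
set_option backward.isDefEq.respectTransparency.types false

universe u

open CategoryTheory CategoryTheory.Limits AlgebraicGeometry TopologicalSpace Opposite

namespace Groth.Agent.Approx.Extend

/-- An affine open to be added, described at one stage of the system. -/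
structure Base {I : Type u} [Preorder I] (D : Iᵒᵖ ⥤ Scheme.{u}) (c : Cone D) {S : Scheme.{u}}
    (e : c.pt ⟶ S) [IsOpenImmersion e] (U : S.Opens) where
  /-- the stage -/
  i1 : I
  /-- the functions -/
  F : Finset Γ(S, U)
  le_range : ∀ f ∈ F, S.basicOpen f ≤ e.opensRange
  /-- the part of the stage -/
  W1 : (D.obj (op i1)).Opens
  compact : IsCompact (W1 : Set (D.obj (op i1)))
  pre : c.π.app (op i1) ⁻¹ᵁ W1 = e ⁻¹ᵁ U
  /-- the functions at the stage -/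
  t : F → Γ(D.obj (op i1), W1)
  ht : ∀ f, ((c.π.app (op i1)).appLE W1 (e ⁻¹ᵁ U) pre.ge).hom (t f) = (e.app U).hom f.1
  affine : ∀ f, IsAffineOpen ((D.obj (op i1)).basicOpen (t f))
  cover : W1 ≤ ⨆ f, (D.obj (op i1)).basicOpen (t f)

theorem nonempty_base {I : Type u} [Preorder I] [IsDirected I (fun a b => a ≤ b)] [Nonempty I]
    {D : Iᵒᵖ ⥤ Scheme.{u}} {c : Cone D} (hc : IsLimit c) [∀ {i j : Iᵒᵖ} (f : i ⟶ j), IsAffineHom (D.map f)]
    [∀ i, CompactSpace (D.obj i)] [∀ i, QuasiSeparatedSpace (D.obj i)] {S : Scheme.{u}} [QuasiSeparatedSpace S]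
    (e : c.pt ⟶ S) [IsOpenImmersion e] [CompactSpace c.pt] (U : S.Opens) (hU : IsAffineOpen U) :
    Nonempty (Base D c e U) := by
  classical
  have hUO : IsCompact ((U : Set S) ∩ e.opensRange) :=
    QuasiSeparatedSpace.inter_isCompact _ _ U.2 hU.isCompact e.opensRange.2
      (by simpa using isCompact_range e.continuous)
  have hx : ∀ x : ((U : Set S) ∩ e.opensRange : Set S), ∃ f : Γ(S, U), S.basicOpen f ≤ e.opensRange ∧ x.1 ∈ S.basicOpen f :=
    fun x => hU.exists_basicOpen_le (⟨x.1, x.2.2⟩ : e.opensRange) x.2.1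
  choose f0 hf0 hxf0 using hx
  obtain ⟨Fx, hFx⟩ := hUO.elim_finite_subcover (fun x => (S.basicOpen (f0 x) : Set S))
    (fun x => (S.basicOpen (f0 x)).2) fun x hx => Set.mem_iUnion.2 ⟨⟨x, hx⟩, hxf0 ⟨x, hx⟩⟩
  let F : Finset Γ(S, U) := Fx.image f0
  have hF : ∀ f ∈ F, S.basicOpen f ≤ e.opensRange := by
    intro f hf
    obtain ⟨x, -, rfl⟩ := Finset.mem_image.1 hf
    exact hf0 x
  have h1 : ∀ f : F, ∃ (i : Iᵒᵖ) (O : (D.obj i).Opens), IsAffineOpen O ∧
      c.π.app i ⁻¹ᵁ O = e ⁻¹ᵁ S.basicOpen f.1 := fun f =>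
    exists_isAffineOpen_preimage_eq D c hc _
      ((hU.basicOpen f.1).preimage_of_isOpenImmersion e (hF f.1 f.2))
  choose If Of hOf hOf' using h1
  obtain ⟨i0, hi0⟩ := Finset.exists_le (Finset.univ.image fun f => (If f).unop)
  replace hi0 : ∀ f, (If f).unop ≤ i0 := fun f => hi0 _ (Finset.mem_image_of_mem _ (Finset.mem_univ f))
  let a : ∀ f, op i0 ⟶ If f := fun f => (homOfLE (hi0 f)).op
  let O0 : F → (D.obj (op i0)).Opens := fun f => D.map (a f) ⁻¹ᵁ Of f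
  let W0 : (D.obj (op i0)).Opens := ⨆ f, O0 f
  have hO0 : ∀ f, c.π.app (op i0) ⁻¹ᵁ O0 f = e ⁻¹ᵁ S.basicOpen f.1 := fun f => by
    rw [← Scheme.Hom.comp_preimage, c.w, hOf']
  have hW0 : c.π.app (op i0) ⁻¹ᵁ W0 = e ⁻¹ᵁ U := by
    rw [Scheme.Hom.preimage_iSup]
    refine le_antisymm (iSup_le fun f => (hO0 f).trans_le (e.preimage_mono (S.basicOpen_le f.1))) fun v hv => ?_
    obtain ⟨x, hx, hvx⟩ := Set.mem_iUnion₂.1 (hFx ⟨hv, ⟨v, rfl⟩⟩)
    refine Opens.mem_iSup.2 ⟨⟨f0 x, Finset.mem_image_of_mem _ hx⟩, ?_⟩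
    rw [hO0]
    exact hvx
  have hW0c : IsCompact (W0 : Set (D.obj (op i0))) := by
    rw [Opens.coe_iSup]
    exact isCompact_iUnion fun f => ((hOf f).preimage _).isCompact
  have h2 : ∀ f : F, ∃ (i : Iᵒᵖ) (g : i ⟶ op i0) (e' : e ⁻¹ᵁ U ≤ c.π.app i ⁻¹ᵁ (D.map g ⁻¹ᵁ W0))
      (t : Γ(D.obj i, D.map g ⁻¹ᵁ W0)),
      ((c.π.app i).appLE (D.map g ⁻¹ᵁ W0) (e ⁻¹ᵁ U) e').hom t = (e.app U).hom f.1 ∧
      (D.obj i).basicOpen t = D.map g ⁻¹ᵁ O0 f := fun f =>
    exists_stage_gen D c hc (op i0) hW0c ((hOf f).preimage _) hW0 _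
      ((hO0 f).trans (Scheme.preimage_basicOpen e f.1))
  choose Ig gI eg tg htg hbg using h2
  obtain ⟨i1, hM⟩ := Finset.exists_le (insert i0 (Finset.univ.image fun f => (Ig f).unop))
  have hM0 : i0 ≤ i1 := hM _ (Finset.mem_insert_self _ _)
  replace hM : ∀ f, (Ig f).unop ≤ i1 := fun f =>
    hM _ (Finset.mem_insert_of_mem (Finset.mem_image_of_mem _ (Finset.mem_univ f)))
  let g1 : op i1 ⟶ op i0 := (homOfLE hM0).op
  let b : ∀ f, op i1 ⟶ Ig f := fun f => (homOfLE (hM f)).op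
  have hb : ∀ f, D.map (b f) ≫ D.map (gI f) = D.map g1 := fun f =>
    (D.map_comp _ _).symm.trans (congrArg D.map (Subsingleton.elim _ _))
  let W1 : (D.obj (op i1)).Opens := D.map g1 ⁻¹ᵁ W0
  have eM : ∀ f, W1 ≤ D.map (b f) ⁻¹ᵁ (D.map (gI f) ⁻¹ᵁ W0) := fun f => by
    rw [← Scheme.Hom.comp_preimage, hb]
  have heq : c.π.app (op i1) ⁻¹ᵁ W1 = e ⁻¹ᵁ U := by
    rw [← Scheme.Hom.comp_preimage, c.w, hW0]
  let t : F → Γ(D.obj (op i1), W1) := fun f => ((D.map (b f)).appLE _ W1 (eM f)).hom (tg f)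
  have hbt : ∀ f, (D.obj (op i1)).basicOpen (t f) = D.map g1 ⁻¹ᵁ O0 f := fun f => by
    rw [Scheme.basicOpen_appLE, hbg f, ← Scheme.Hom.comp_preimage (D.map (b f)), hb]
    exact inf_eq_right.2 ((D.map g1).preimage_mono (le_iSup O0 f))
  refine ⟨⟨i1, F, hF, W1, QuasiCompact.isCompact_preimage (f := D.map g1) _ W0.2 hW0c, heq, t, fun f => ?_,
    fun f => ?_, ?_⟩⟩
  · exact (appLE_appLE_of_comp (c.π.app (op i1)) (D.map (b f)) (c.π.app (Ig f)) (c.w _)
      (eM f) heq.ge (eg f) (tg f)).trans (htg f)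
  · rw [hbt f]
    exact ((hOf f).preimage _).preimage _
  · exact (Scheme.Hom.preimage_iSup (D.map g1) O0).le.trans (iSup_mono fun f => (hbt f).ge)

namespace Base

variable {I : Type u} [Preorder I] {D : Iᵒᵖ ⥤ Scheme.{u}} {c : Cone D} {S : Scheme.{u}} {e : c.pt ⟶ S}
  [IsOpenImmersion e] {U : S.Opens} (β : Base D c e U)

/-- Stages after the first one. -/
abbrev K : Type u := Tail β.i1

/-- The part of a stage lying over the affine open. -/
noncomputable def W (i : β.K) : (D.obj (op i.1)).Opens := D.map (homOfLE i.2).op ⁻¹ᵁ β.W1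

theorem pre_W {i k : β.K} (h : i ≤ k) :
    D.map (homOfLE (show i.1 ≤ k.1 from h)).op ⁻¹ᵁ β.W i = β.W k := by
  show _ ⁻¹ᵁ (D.map (homOfLE i.2).op ⁻¹ᵁ β.W1) = _
  rw [← Scheme.Hom.comp_preimage, ← D.map_comp]
  rfl

theorem pre_π (i : β.K) : c.π.app (op i.1) ⁻¹ᵁ β.W i = e ⁻¹ᵁ U := by
  show _ ⁻¹ᵁ (D.map (homOfLE i.2).op ⁻¹ᵁ β.W1) = _
  rw [← Scheme.Hom.comp_preimage, c.w, β.pre]

/-- Restriction along a transition. -/
noncomputable def tr {i k : β.K} (h : i ≤ k) : Γ(D.obj (op i.1), β.W i) →+* Γ(D.obj (op k.1), β.W k) :=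
  ((D.map (homOfLE (show i.1 ≤ k.1 from h)).op).appLE (β.W i) (β.W k) (β.pre_W h).ge).hom

/-- Restriction to the limit. -/
noncomputable def toLim (i : β.K) : Γ(D.obj (op i.1), β.W i) →+* Γ(c.pt, e ⁻¹ᵁ U) :=
  ((c.π.app (op i.1)).appLE (β.W i) (e ⁻¹ᵁ U) (β.pre_π i).ge).hom

theorem toLim_tr {i k : β.K} (h : i ≤ k) (x : Γ(D.obj (op i.1), β.W i)) :
    β.toLim k (β.tr h x) = β.toLim i x :=
  appLE_appLE_of_comp _ _ _ (c.w _) _ _ _ x

theorem tr_tr {i k l : β.K} (h : i ≤ k) (h' : k ≤ l) (x : Γ(D.obj (op i.1), β.W i)) :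
    β.tr h' (β.tr h x) = β.tr (h.trans h') x :=
  appLE_appLE_of_comp _ _ _ ((D.map_comp _ _).symm.trans (congrArg D.map (Subsingleton.elim _ _))) _ _ _ x

theorem tr_self {i : β.K} (h : i ≤ i) (x : Γ(D.obj (op i.1), β.W i)) : β.tr h x = x := by
  have e0 : D.map (homOfLE (show i.1 ≤ i.1 from h)).op = 𝟙 (D.obj (op i.1)) :=
    (congrArg D.map (Subsingleton.elim _ _)).trans (D.map_id _)
  have key : ∀ (g : D.obj (op i.1) ⟶ D.obj (op i.1)), g = 𝟙 _ → ∀ e', (g.appLE (β.W i) (β.W i) e').hom x = x := by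
    rintro g rfl e'
    rw [Scheme.Hom.appLE, Scheme.Hom.id_app, Category.id_comp]
    erw [CategoryTheory.Functor.map_id]
    rfl
  exact key _ e0 _

/-- The functions at a stage. -/
noncomputable def tt (i : β.K) (f : β.F) : Γ(D.obj (op i.1), β.W i) :=
  ((D.map (homOfLE i.2).op).appLE β.W1 (β.W i) le_rfl).hom (β.t f)

theorem tr_tt {i k : β.K} (h : i ≤ k) (f : β.F) : β.tr h (β.tt i f) = β.tt k f :=
  appLE_appLE_of_comp _ _ _ ((D.map_comp _ _).symm.trans (congrArg D.map (Subsingleton.elim _ _))) _ _ _ _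

theorem toLim_tt (i : β.K) (f : β.F) : β.toLim i (β.tt i f) = (e.app U).hom f.1 :=
  (appLE_appLE_of_comp _ _ _ (c.w _) _ _ _ _).trans (β.ht f)

theorem basicOpen_tt (i : β.K) (f : β.F) :
    (D.obj (op i.1)).basicOpen (β.tt i f) = D.map (homOfLE i.2).op ⁻¹ᵁ (D.obj (op β.i1)).basicOpen (β.t f) := by
  rw [tt, Scheme.basicOpen_appLE]
  exact inf_eq_right.2 ((D.map _).preimage_mono ((D.obj (op β.i1)).basicOpen_le _))

theorem cover_tt (i : β.K) : β.W i ≤ ⨆ f, (D.obj (op i.1)).basicOpen (β.tt i f) := by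
  simp only [basicOpen_tt, ← Scheme.Hom.preimage_iSup]
  exact (D.map _).preimage_mono β.cover

/-- The rings at a stage: pairs agreeing over the limit. -/
noncomputable def P (i : β.K) : Subring (Γ(S, U) × Γ(D.obj (op i.1), β.W i)) :=
  RingHom.eqLocus ((e.app U).hom.comp (RingHom.fst _ _)) ((β.toLim i).comp (RingHom.snd _ _))

theorem mem_P (i : β.K) (x : Γ(S, U) × Γ(D.obj (op i.1), β.W i)) :
    x ∈ β.P i ↔ (e.app U).hom x.1 = β.toLim i x.2 := Iff.rfl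

/-- Restriction of pairs. -/
noncomputable def trP {i k : β.K} (h : i ≤ k) :
    Γ(S, U) × Γ(D.obj (op i.1), β.W i) →+* Γ(S, U) × Γ(D.obj (op k.1), β.W k) :=
  (RingHom.id _).prodMap (β.tr h)

theorem trP_mem {i k : β.K} (h : i ≤ k) {x} (hx : x ∈ β.P i) : β.trP h x ∈ β.P k :=
  (β.mem_P k _).2 (((β.mem_P i x).1 hx).trans (β.toLim_tr h x.2).symm)

/-- The pair of a function. -/
noncomputable def g (i : β.K) (f : β.F) : Γ(S, U) × Γ(D.obj (op i.1), β.W i) := (f.1, β.tt i f)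

theorem g_mem (i : β.K) (f : β.F) : β.g i f ∈ β.P i := (β.mem_P i _).2 (β.toLim_tt i f).symm

theorem trP_g {i k : β.K} (h : i ≤ k) (f : β.F) : β.trP h (β.g i f) = β.g k f :=
  Prod.ext rfl (β.tr_tt h f)

/-- A finitely generated ring of pairs defining a chart. -/
def Good (i : β.K) (A : Subring (Γ(S, U) × Γ(D.obj (op i.1), β.W i))) : Prop :=
  A ≤ β.P i ∧ (∃ s : Finset (Γ(S, U) × Γ(D.obj (op i.1), β.W i)), Subring.closure (s : Set _) = A) ∧
    (∀ f, β.g i f ∈ A) ∧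
    ∀ (f : β.F) (z : Γ(D.obj (op i.1), (D.obj (op i.1)).basicOpen (β.tt i f))), ∃ (k : ℕ) (x : A),
      z * algebraMap Γ(D.obj (op i.1), β.W i) _ (β.tt i f) ^ k =
        algebraMap Γ(D.obj (op i.1), β.W i) _ x.1.2

end Base

end Groth.Agent.Approx.Extend
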