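import Groth.Agent.Approx.Extend.Lim
import Mathlib.AlgebraicGeometry.Morphisms.QuasiSeparated

/-!
# Extending approximations along quasi-compact open immersions
-/

set_option autoImplicit false
set_option backward.isDefEq.respectTransparency false
set_option backward.isDefEq.respectTransparency.types false

universe u

open CategoryTheory CategoryTheory.Limits AlgebraicGeometry TopologicalSpace Opposite

namespace Groth.Agent.Approx.Extend

/-- An approximation of the target of an open immersion extending one of the source. -/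
structure Ext {I : Type u} [Preorder I] (D : Iᵒᵖ ⥤ Scheme.{u}) (c : Cone D) {S : Scheme.{u}}
    (e : c.pt ⟶ S) where
  /-- the index set -/
  J : Type u
  [pre : Preorder J]
  [dir : IsDirected J (fun a b => a ≤ b)]
  [ne : Nonempty J]
  /-- the system -/
  DS : Jᵒᵖ ⥤ Scheme.{u}
  /-- the projections -/
  π : (Functor.const Jᵒᵖ).obj S ⟶ DS
  lim : Nonempty (IsLimit (Cone.mk S π))
  /-- the map of indices -/
  α : J → I
  mono : Monotone α
  /-- the inclusions -/
  ι : ∀ j, D.obj (op (α j)) ⟶ DS.obj (op j)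
  isOpen : ∀ j, IsOpenImmersion (ι j)
  pbπ : ∀ j, IsPullback (c.π.app (op (α j))) e (ι j) (π.app (op j))
  pbmap : ∀ (i j : J) (h : i ≤ j),
    IsPullback (D.map (homOfLE (mono h)).op) (ι j) (ι i) (DS.map (homOfLE h).op)
  aff : ∀ (i j : Jᵒᵖ) (f : i ⟶ j), IsAffineHom (DS.map f)
  compact : ∀ j, CompactSpace (DS.obj j)
  ft : ∀ j, FTZ (DS.obj j)

attribute [instance] Ext.pre Ext.dir Ext.ne

variable {I : Type u} [Preorder I] {D : Iᵒᵖ ⥤ Scheme.{u}} {c : Cone D}

/-- The cone of an extension. -/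
noncomputable abbrev Ext.cone {S : Scheme.{u}} {e : c.pt ⟶ S} (E : Ext D c e) : Cone E.DS := Cone.mk S E.π

/-- An isomorphism is extended by the system itself. -/
theorem nonempty_ext_iso [IsDirected I (fun a b => a ≤ b)] [Nonempty I] (hc : IsLimit c)
    (haff : ∀ (i j : Iᵒᵖ) (f : i ⟶ j), IsAffineHom (D.map f)) (hcpt : ∀ i, CompactSpace (D.obj i))
    (hft : ∀ i, FTZ (D.obj i)) {S : Scheme.{u}} (e : c.pt ⟶ S) [IsIso e] : Nonempty (Ext D c e) := by
  refine ⟨{ J := I, DS := D, π := (Functor.const Iᵒᵖ).map (inv e) ≫ c.π, lim := ?_, α := id,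
            mono := monotone_id, ι := fun j => 𝟙 _, isOpen := fun j => inferInstance, pbπ := fun j => ?_,
            pbmap := fun i j h => ?_, aff := haff, compact := hcpt, ft := hft }⟩
  · exact ⟨hc.ofIsoLimit (Cone.ext (asIso e) fun j => by simp)⟩
  · exact IsPullback.of_vert_isIso ⟨by simp⟩
  · exact IsPullback.of_vert_isIso ⟨by simp⟩

/-- Extensions compose. -/
theorem nonempty_ext_comp {S S' : Scheme.{u}} {e : c.pt ⟶ S} (E : Ext D c e) {e' : S ⟶ S'}
    (E' : Ext E.DS E.cone e') : Nonempty (Ext D c (e ≫ e')) := by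
  haveI := E.isOpen
  haveI := E'.isOpen
  exact ⟨{
    J := E'.J, DS := E'.DS, π := E'.π, lim := E'.lim, α := fun j => E.α (E'.α j),
    mono := E.mono.comp E'.mono, ι := fun j => E.ι (E'.α j) ≫ E'.ι j, isOpen := fun j => inferInstance,
    pbπ := fun j => (E.pbπ (E'.α j)).paste_vert (E'.pbπ j),
    pbmap := fun i j h => (E.pbmap (E'.α i) (E'.α j) (E'.mono h)).paste_vert (E'.pbmap i j h),
    aff := E'.aff, compact := E'.compact, ft := E'.ft }⟩

/-- Adding an affine open. -/
theorem nonempty_ext_step [IsDirected I (fun a b => a ≤ b)] [Nonempty I] (hc : IsLimit c)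
    (haff : ∀ (i j : Iᵒᵖ) (f : i ⟶ j), IsAffineHom (D.map f)) (hcpt : ∀ i, CompactSpace (D.obj i))
    (hft : ∀ i, FTZ (D.obj i)) {S : Scheme.{u}} [QuasiSeparatedSpace S] (e : c.pt ⟶ S) [IsOpenImmersion e]
    (U : S.Opens) (hU : IsAffineOpen U) (hcov : e.opensRange ⊔ U = ⊤) : Nonempty (Ext D c e) := by
  haveI : ∀ {i j : Iᵒᵖ} (f : i ⟶ j), IsAffineHom (D.map f) := fun f => haff _ _ f
  haveI : ∀ i, CompactSpace (D.obj i) := hcpt
  haveI : ∀ i, QuasiSeparatedSpace (D.obj i) := fun i => quasiSeparatedSpace_of_ftz (hft i)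
  haveI : CompactSpace c.pt := Scheme.compactSpace_of_isLimit D c hc
  haveI : QuasiSeparatedSpace c.pt := .of_isOpenEmbedding e.isOpenEmbedding
  have hW : IsCompact ((e ⁻¹ᵁ U : c.pt.Opens) : Set c.pt) := by
    refine e.isOpenEmbedding.isInducing.isCompact_iff.2 ?_
    rw [show ((e ⁻¹ᵁ U : c.pt.Opens) : Set c.pt) = e ⁻¹' U from rfl, Set.image_preimage_eq_inter_range]
    exact QuasiSeparatedSpace.inter_isCompact _ _ U.2 hU.isCompact e.opensRange.2 (isCompact_range e.continuous)
  obtain ⟨β⟩ := nonempty_base hc e U hU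
  have hch := fun a : β.Idx => β.exists_chart_good hft hU a.i a.good
  haveI hψ : ∀ a : β.Idx, IsOpenImmersion (β.ψ a) := fun a => (hch a).choose
  have hr : β.RangeEq := fun a => (hch a).choose_spec
  haveI := β.directed_idx hft hW hU
  haveI : Nonempty β.Idx := ⟨(β.exists_idx_ge hft hW hU β.i1).choose⟩
  have hlim := β.nonempty_isLimit_cone hcov hc hft hW hU hr
  exact ⟨{ J := β.Idx, DS := β.sys, π := (β.cone hcov).π, lim := hlim, α := β.stage, mono := β.stage_mono,
           ι := β.inV, isOpen := fun a => inferInstanceAs (IsOpenImmersion (β.inV a)),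
           pbπ := fun a => β.isPullback_e hcov hr a, pbmap := fun a b h => β.isPullback_inV hr h,
           aff := fun a b f => β.isAffineHom_map hr (show b.unop ≤ a.unop from f.unop.le),
           compact := fun a => β.compactSpace_obj a.unop, ft := fun a => β.ftz_obj hft a.unop }⟩

/-- **Approximation relative to a quasi-compact open.** -/
theorem nonempty_ext [IsDirected I (fun a b => a ≤ b)] [Nonempty I] (hc : IsLimit c)
    (haff : ∀ (i j : Iᵒᵖ) (f : i ⟶ j), IsAffineHom (D.map f)) (hcpt : ∀ i, CompactSpace (D.obj i))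
    (hft : ∀ i, FTZ (D.obj i)) {S : Scheme.{u}} [CompactSpace S] [QuasiSeparatedSpace S] (e : c.pt ⟶ S)
    [IsOpenImmersion e] : Nonempty (Ext D c e) := by
  have H : ∀ O : S.Opens, IsCompact (O : Set S) →
      Nonempty (Ext D c (IsOpenImmersion.lift (e.opensRange ⊔ O).ι e
        (by rw [Scheme.Opens.range_ι]; exact fun x hx => Or.inl hx))) := by
    intro O hO
    refine compact_open_induction_on (P := fun O : S.Opens => Nonempty (Ext D c (IsOpenImmersion.lift
      (e.opensRange ⊔ O).ι e (by rw [Scheme.Opens.range_ι]; exact fun x hx => Or.inl hx)))) O hO ?_ ?_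
    · set l := IsOpenImmersion.lift (e.opensRange ⊔ ⊥).ι e
        (by rw [Scheme.Opens.range_ι]; exact fun x hx => Or.inl hx)
      haveI : IsOpenImmersion l := by
        haveI : IsOpenImmersion (l ≫ (e.opensRange ⊔ ⊥).ι) := by rw [IsOpenImmersion.lift_fac]; infer_instance
        exact IsOpenImmersion.of_comp l (e.opensRange ⊔ ⊥).ι
      haveI : IsIso l := by
        refine isIso_of_isOpenImmersion_of_opensRange_eq_top l (top_unique fun x _ => ?_)
        obtain ⟨v, hv⟩ : (e.opensRange ⊔ ⊥).ι x ∈ Set.range e := (x.2 : _ ∈ (e.opensRange : Set S) ∪ (⊥ : S.Opens)).resolve_right id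
        refine ⟨v, (e.opensRange ⊔ ⊥).ι.injective ?_⟩
        rw [← Scheme.Hom.comp_apply, IsOpenImmersion.lift_fac]
        exact hv
      exact nonempty_ext_iso hc haff hcpt hft l
    · rintro O - U ⟨E⟩
      have hle : e.opensRange ⊔ O ≤ e.opensRange ⊔ (O ⊔ U.1) := sup_le_sup_left le_sup_left _
      let j := S.homOfLE hle
      haveI : QuasiSeparatedSpace ((e.opensRange ⊔ (O ⊔ U.1) : S.Opens) : Scheme.{u}) :=
        .of_isOpenEmbedding (e.opensRange ⊔ (O ⊔ U.1) : S.Opens).ι.isOpenEmbedding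
      have hcov : j.opensRange ⊔ (e.opensRange ⊔ (O ⊔ U.1)).ι ⁻¹ᵁ U.1 = ⊤ := by
        rw [Scheme.opensRange_homOfLE, ← Scheme.Hom.preimage_sup, sup_assoc]
        exact (e.opensRange ⊔ (O ⊔ U.1)).ι_preimage_self
      obtain ⟨E'⟩ := nonempty_ext_step (c := E.cone) E.lim.some E.aff E.compact E.ft j
        ((e.opensRange ⊔ (O ⊔ U.1)).ι ⁻¹ᵁ U.1)
        (U.2.preimage_of_isOpenImmersion _ (by rw [Scheme.Opens.opensRange_ι]; exact le_sup_right.trans le_sup_right))
        hcov
      obtain ⟨E''⟩ := nonempty_ext_comp E E'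
      have heq : IsOpenImmersion.lift (e.opensRange ⊔ O).ι e
          (by rw [Scheme.Opens.range_ι]; exact fun x hx => Or.inl hx) ≫ j =
          IsOpenImmersion.lift (e.opensRange ⊔ (O ⊔ U.1)).ι e
            (by rw [Scheme.Opens.range_ι]; exact fun x hx => Or.inl hx) := by
        rw [← cancel_mono (e.opensRange ⊔ (O ⊔ U.1)).ι, Category.assoc, Scheme.homOfLE_ι, IsOpenImmersion.lift_fac,
          IsOpenImmersion.lift_fac]
      exact ⟨heq ▸ E''⟩
  obtain ⟨E⟩ := H ⊤ isCompact_univ
  have htop : e.opensRange ⊔ ⊤ = ⊤ := sup_top_eq _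
  haveI : IsIso (e.opensRange ⊔ ⊤).ι := by rw [htop]; exact (inferInstance : IsIso S.topIso.hom)
  obtain ⟨E'⟩ := nonempty_ext_iso (c := E.cone) E.lim.some E.aff E.compact E.ft (e.opensRange ⊔ ⊤).ι
  obtain ⟨E''⟩ := nonempty_ext_comp E E'
  exact ⟨IsOpenImmersion.lift_fac (e.opensRange ⊔ ⊤).ι e _ ▸ E''⟩

end Groth.Agent.Approx.Extend
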