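import Groth.Agent.Approx.Model
import Groth.Agent.Approx.FP
import Mathlib.CategoryTheory.Limits.Types.Filtered
import Mathlib.Algebra.Category.Ring.FilteredColimits

/-!
# Limits of systems glued from two pieces
-/

set_option autoImplicit false
set_option backward.isDefEq.respectTransparency false
set_option backward.isDefEq.respectTransparency.types false

universe u

open CategoryTheory CategoryTheory.Limits AlgebraicGeometry TopologicalSpace Opposite

namespace Groth.Agent.Approx.Extend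

/-- In a cartesian square with an open immersion the preimage of its range is the range. -/
theorem preimage_opensRange {A B C D : Scheme.{u}} {p : A ⟶ B} {a : A ⟶ C} {b : B ⟶ D} {q : C ⟶ D}
    [IsOpenImmersion a] [IsOpenImmersion b] (h : IsPullback p a b q) : q ⁻¹ᵁ b.opensRange = a.opensRange := by
  refine TopologicalSpace.Opens.ext ?_
  show q ⁻¹' Set.range b = Set.range a
  rw [← h.isoPullback_hom_snd, Scheme.Hom.comp_base, TopCat.coe_comp,
    h.isoPullback.hom.surjective.range_comp, Scheme.Pullback.range_snd]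

/-- A morphism which is affine over two open pieces covering the target is affine. -/
theorem isAffineHom_of_two {A A' B B' X Y : Scheme.{u}} (f : X ⟶ Y) (a : A ⟶ Y) (b : B ⟶ Y) [IsOpenImmersion a]
    [IsOpenImmersion b] (hcov : a.opensRange ⊔ b.opensRange = ⊤) {p : A' ⟶ A} {a' : A' ⟶ X} {q : B' ⟶ B}
    {b' : B' ⟶ X} (hA : IsPullback p a' a f) (hB : IsPullback q b' b f) [IsAffineHom p] [IsAffineHom q] :
    IsAffineHom f := by
  refine IsZariskiLocalAtTarget.of_openCover (P := @IsAffineHom) (cover2 a b hcov) ?_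
  rintro ⟨_ | _⟩
  · show IsAffineHom (pullback.snd f b)
    rw [← hB.flip.isoPullback_inv_snd]
    infer_instance
  · show IsAffineHom (pullback.snd f a)
    rw [← hA.flip.isoPullback_inv_snd]
    infer_instance

section two

variable {J : Type u} [Preorder J] [IsDirected J (fun a b => a ≤ b)] [Nonempty J] {D A : Jᵒᵖ ⥤ Scheme.{u}}
  {c : Cone D} {cA : Cone A} (ιA : A ⟶ D) (a : cA.pt ⟶ c.pt) [IsOpenImmersion a]
  [∀ j, IsOpenImmersion (ιA.app j)]
  (hπ : ∀ j, IsPullback (cA.π.app j) a (ιA.app j) (c.π.app j))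
  (hmap : ∀ {i j : Jᵒᵖ} (f : i ⟶ j), IsPullback (A.map f) (ιA.app i) (ιA.app j) (D.map f))

include hmap in
theorem preimage_piece (s : Cone D) (i j : Jᵒᵖ) :
    s.π.app i ⁻¹ᵁ (ιA.app i).opensRange = s.π.app j ⁻¹ᵁ (ιA.app j).opensRange := by
  obtain ⟨k, hi, hj⟩ := exists_ge_ge i.unop j.unop
  have e : ∀ l : Jᵒᵖ, (op k ⟶ l) →
      s.π.app l ⁻¹ᵁ (ιA.app l).opensRange = s.π.app (op k) ⁻¹ᵁ (ιA.app (op k)).opensRange := fun l f => by
    rw [← s.w f, Scheme.Hom.comp_preimage, preimage_opensRange (hmap f)]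
  rw [e i (homOfLE hi).op, e j (homOfLE hj).op]

include hπ hmap in
/-- The part of a cone over a piece. -/
theorem exists_piece (hA : IsLimit cA) (s : Cone D) (j0 : Jᵒᵖ) :
    ∃ v : (s.π.app j0 ⁻¹ᵁ (ιA.app j0).opensRange : Scheme.{u}) ⟶ cA.pt,
      ∀ j, v ≫ a ≫ c.π.app j = (s.π.app j0 ⁻¹ᵁ (ιA.app j0).opensRange).ι ≫ s.π.app j := by
  let W := s.π.app j0 ⁻¹ᵁ (ιA.app j0).opensRange
  have hr : ∀ j, Set.range (W.ι ≫ s.π.app j) ⊆ Set.range (ιA.app j) := by
    rintro j _ ⟨x, rfl⟩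
    exact (preimage_piece ιA hmap s j j0).ge x.2
  let sA : Cone A :=
  { pt := W
    π :=
    { app := fun j => IsOpenImmersion.lift (ιA.app j) (W.ι ≫ s.π.app j) (hr j)
      naturality := fun i j f => by
        rw [← cancel_mono (ιA.app j)]
        simp only [Functor.const_obj_obj, Functor.const_obj_map, Category.id_comp, Category.assoc,
          IsOpenImmersion.lift_fac, ιA.naturality]
        rw [← Category.assoc, IsOpenImmersion.lift_fac, Category.assoc, s.w] } }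
  refine ⟨hA.lift sA, fun j => ?_⟩
  rw [← (hπ j).w, ← Category.assoc, hA.fac sA j]
  exact IsOpenImmersion.lift_fac _ _ _

include hπ in
/-- Maps agreeing at every stage agree over a piece. -/
theorem eq_on_piece (hA : IsLimit cA) {T : Scheme.{u}} (x y : T ⟶ c.pt)
    (h : ∀ j, x ≫ c.π.app j = y ≫ c.π.app j) :
    x ⁻¹ᵁ a.opensRange = y ⁻¹ᵁ a.opensRange ∧ (x ⁻¹ᵁ a.opensRange).ι ≫ x = (x ⁻¹ᵁ a.opensRange).ι ≫ y := by
  obtain ⟨j0⟩ : Nonempty Jᵒᵖ := ⟨op (Classical.arbitrary J)⟩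
  have he : x ⁻¹ᵁ a.opensRange = y ⁻¹ᵁ a.opensRange := by
    rw [← preimage_opensRange (hπ j0), ← Scheme.Hom.comp_preimage, ← Scheme.Hom.comp_preimage, h]
  refine ⟨he, ?_⟩
  let W := x ⁻¹ᵁ a.opensRange
  have hx : Set.range (W.ι ≫ x) ⊆ Set.range a := by rintro _ ⟨t, rfl⟩; exact t.2
  have hy : Set.range (W.ι ≫ y) ⊆ Set.range a := by rintro _ ⟨t, rfl⟩; exact he.le t.2
  show W.ι ≫ x = W.ι ≫ y
  rw [← IsOpenImmersion.lift_fac a _ hx, ← IsOpenImmersion.lift_fac a _ hy]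
  congr 1
  refine hA.hom_ext fun j => ?_
  rw [← cancel_mono (ιA.app j), Category.assoc, Category.assoc, (hπ j).w, ← Category.assoc, ← Category.assoc,
    IsOpenImmersion.lift_fac, IsOpenImmersion.lift_fac, Category.assoc, Category.assoc, h]

end two

/-- A cone made of two limit pieces is a limit. -/
theorem nonempty_isLimit_two {J : Type u} [Preorder J] [IsDirected J (fun a b => a ≤ b)] [Nonempty J]
    {D A B : Jᵒᵖ ⥤ Scheme.{u}} {c : Cone D} {cA : Cone A} {cB : Cone B} (ιA : A ⟶ D) (ιB : B ⟶ D)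
    (a : cA.pt ⟶ c.pt) (b : cB.pt ⟶ c.pt) [IsOpenImmersion a] [IsOpenImmersion b]
    [∀ j, IsOpenImmersion (ιA.app j)] [∀ j, IsOpenImmersion (ιB.app j)]
    (hπA : ∀ j, IsPullback (cA.π.app j) a (ιA.app j) (c.π.app j))
    (hπB : ∀ j, IsPullback (cB.π.app j) b (ιB.app j) (c.π.app j))
    (hmapA : ∀ {i j : Jᵒᵖ} (f : i ⟶ j), IsPullback (A.map f) (ιA.app i) (ιA.app j) (D.map f))
    (hmapB : ∀ {i j : Jᵒᵖ} (f : i ⟶ j), IsPullback (B.map f) (ιB.app i) (ιB.app j) (D.map f))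
    (hA : IsLimit cA) (hB : IsLimit cB) (hcov : a.opensRange ⊔ b.opensRange = ⊤)
    (hcovD : ∀ j, (ιA.app j).opensRange ⊔ (ιB.app j).opensRange = ⊤) : Nonempty (IsLimit c) := by
  have hext : ∀ (T : Scheme.{u}) (x y : T ⟶ c.pt), (∀ j, x ≫ c.π.app j = y ≫ c.π.app j) → x = y := by
    intro T x y h
    obtain ⟨-, h1⟩ := eq_on_piece ιA a hπA hA x y h
    obtain ⟨-, h2⟩ := eq_on_piece ιB b hπB hB x y h
    refine (cover2 (x ⁻¹ᵁ a.opensRange).ι (x ⁻¹ᵁ b.opensRange).ι ?_).hom_ext _ _ ?_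
    · rw [Scheme.Opens.opensRange_ι, Scheme.Opens.opensRange_ι, ← Scheme.Hom.preimage_sup, hcov]
      rfl
    · rintro ⟨_ | _⟩
      exacts [h2, h1]
  obtain ⟨j0⟩ : Nonempty Jᵒᵖ := ⟨op (Classical.arbitrary J)⟩
  have hex : ∀ s : Cone D, ∃ m : s.pt ⟶ c.pt, ∀ j, m ≫ c.π.app j = s.π.app j := by
    intro s
    obtain ⟨v, hv⟩ := exists_piece ιA a hπA hmapA hA s j0
    obtain ⟨w, hw⟩ := exists_piece ιB b hπB hmapB hB s j0
    have hc' : (s.π.app j0 ⁻¹ᵁ (ιA.app j0).opensRange).ι.opensRange ⊔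
        (s.π.app j0 ⁻¹ᵁ (ιB.app j0).opensRange).ι.opensRange = ⊤ := by
      rw [Scheme.Opens.opensRange_ι, Scheme.Opens.opensRange_ι, ← Scheme.Hom.preimage_sup, hcovD]
      rfl
    obtain ⟨m, hm1, hm2⟩ := exists_glue2 _ _ hc' (v ≫ a) (w ≫ b) (hext _ _ _ fun j => by
      simp only [Category.assoc, hv, hw]
      exact pullback.condition_assoc _)
    refine ⟨m, fun j => (cover2 _ _ hc').hom_ext _ _ ?_⟩
    rintro ⟨_ | _⟩
    · show (s.π.app j0 ⁻¹ᵁ (ιB.app j0).opensRange).ι ≫ m ≫ c.π.app j =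
        (s.π.app j0 ⁻¹ᵁ (ιB.app j0).opensRange).ι ≫ s.π.app j
      rw [← Category.assoc, hm2, Category.assoc, hw]
    · show (s.π.app j0 ⁻¹ᵁ (ιA.app j0).opensRange).ι ≫ m ≫ c.π.app j =
        (s.π.app j0 ⁻¹ᵁ (ιA.app j0).opensRange).ι ≫ s.π.app j
      rw [← Category.assoc, hm1, Category.assoc, hv]
  exact ⟨IsLimit.mk (fun s => (hex s).choose) (fun s => (hex s).choose_spec)
    fun s m hm => hext _ _ _ fun j => (hm j).trans ((hex s).choose_spec j).symm⟩

/-- An open immersion into a spectrum given by localizations. -/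
theorem chart_of_localizations {X : Scheme.{u}} (W : X.Opens) {A : Type u} [CommRing A] (φ : A →+* Γ(X, W))
    {ι : Type u} (g : ι → A) (hO : ∀ f, IsAffineOpen (X.basicOpen (φ (g f))))
    (hcov : W ≤ ⨆ f, X.basicOpen (φ (g f)))
    (hloc : ∀ f, letI := ((algebraMap Γ(X, W) Γ(X, X.basicOpen (φ (g f)))).comp φ).toAlgebra
      IsLocalization.Away (g f) Γ(X, X.basicOpen (φ (g f)))) :
    ∃ _ : IsOpenImmersion (W.toSpecΓ ≫ Spec.map (CommRingCat.ofHom φ)),
      (W.toSpecΓ ≫ Spec.map (CommRingCat.ofHom φ)).opensRange = ⨆ f, PrimeSpectrum.basicOpen (g f) := by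
  set ψ := W.toSpecΓ ≫ Spec.map (CommRingCat.ofHom φ) with hψdef
  let Uf : ι → (Spec (CommRingCat.of A)).Opens := fun f => PrimeSpectrum.basicOpen (g f)
  have hpre : ∀ f, ψ ⁻¹ᵁ Uf f = W.ι ⁻¹ᵁ X.basicOpen (φ (g f)) := by
    intro f
    rw [hψdef, Scheme.Hom.comp_preimage]
    exact Scheme.Opens.toSpecΓ_preimage_basicOpen W (φ (g f))
  let q : ∀ f, (X.basicOpen (φ (g f)) : Scheme.{u}) ⟶ W := fun f => X.homOfLE (X.basicOpen_le _)
  have hqr : ∀ f, (q f).opensRange = ψ ⁻¹ᵁ Uf f := fun f => by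
    rw [hpre f]
    exact Scheme.opensRange_homOfLE _
  have hqψ : ∀ f, q f ≫ ψ = (hO f).isoSpec.hom ≫
      Spec.map (CommRingCat.ofHom ((algebraMap Γ(X, W) Γ(X, X.basicOpen (φ (g f)))).comp φ)) := by
    intro f
    rw [hψdef, CommRingCat.ofHom_comp, Spec.map_comp, ← Category.assoc, ← Category.assoc]
    congr 1
    exact (Scheme.Opens.toSpecΓ_SpecMap_presheaf_map _ _ (X.basicOpen_le _)).symm
  have hopen : ∀ f, IsOpenImmersion (q f ≫ ψ) := by
    intro f
    rw [hqψ f]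
    letI := ((algebraMap Γ(X, W) Γ(X, X.basicOpen (φ (g f)))).comp φ).toAlgebra
    haveI := hloc f
    haveI := IsOpenImmersion.of_isLocalization (R := A) (S := Γ(X, X.basicOpen (φ (g f)))) (g f)
    exact IsOpenImmersion.comp (hO f).isoSpec.hom _
  have hcov' : ∀ x : (W : Scheme.{u}), ∃ f, x ∈ ψ ⁻¹ᵁ Uf f := fun x => by
    obtain ⟨f, hf⟩ := Opens.mem_iSup.1 (hcov x.2)
    exact ⟨f, (hpre f) ▸ hf⟩
  haveI hψ : IsOpenImmersion ψ := isOpenImmersion_of_preimages ψ q Uf hqr hcov' hopen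
  refine ⟨hψ, le_antisymm ?_ (iSup_le fun f => ?_)⟩
  · rintro _ ⟨x, rfl⟩
    obtain ⟨f, hf⟩ := hcov' x
    exact Opens.mem_iSup.2 ⟨f, hf⟩
  · intro y hy
    letI := ((algebraMap Γ(X, W) Γ(X, X.basicOpen (φ (g f)))).comp φ).toAlgebra
    haveI := hloc f
    obtain ⟨w, hw⟩ : y ∈ Set.range (PrimeSpectrum.comap (algebraMap A Γ(X, X.basicOpen (φ (g f))))) := by
      rw [PrimeSpectrum.localization_away_comap_range _ (g f)]
      exact hy
    obtain ⟨w', hw'⟩ := (hO f).isoSpec.hom.homeomorph.surjective w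
    refine ⟨q f w', ?_⟩
    show (q f ≫ ψ) w' = y
    rw [hqψ f, ← hw, ← hw']
    rfl

end Groth.Agent.Approx.Extend
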