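import Groth.Agent.Approx.Extend.Base

/-!
# Existence and properties of charts at a stage
-/

set_option autoImplicit false
set_option backward.isDefEq.respectTransparency false
set_option backward.isDefEq.respectTransparency.types false

universe u

open CategoryTheory CategoryTheory.Limits AlgebraicGeometry TopologicalSpace Opposite

namespace Groth.Agent.Approx.Extend.Base

variable {I : Type u} [Preorder I] {D : Iᵒᵖ ⥤ Scheme.{u}} {c : Cone D} {S : Scheme.{u}} {e : c.pt ⟶ S}
  [IsOpenImmersion e] {U : S.Opens} (β : Base D c e U)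
  [∀ {i j : Iᵒᵖ} (f : i ⟶ j), IsAffineHom (D.map f)]

theorem isCompact_W (i : β.K) : IsCompact (β.W i : Set (D.obj (op i.1))) :=
  QuasiCompact.isCompact_preimage (f := D.map (homOfLE i.2).op) _ β.W1.2 β.compact

theorem affine_tt (i : β.K) (f : β.F) : IsAffineOpen ((D.obj (op i.1)).basicOpen (β.tt i f)) := by
  rw [β.basicOpen_tt]
  exact (β.affine f).preimage _

theorem isLocalization_tt (hft : ∀ j, FTZ (D.obj j)) (i : β.K) (f : β.F) :
    IsLocalization.Away (β.tt i f) Γ(D.obj (op i.1), (D.obj (op i.1)).basicOpen (β.tt i f)) := by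
  haveI := quasiSeparatedSpace_of_ftz (hft (op i.1))
  exact isLocalization_basicOpen_of_qcqs (β.isCompact_W i) (IsQuasiSeparated.of_quasiSeparatedSpace _) _

/-- Fractions with numerators from a ring are closed under the ring operations. -/
theorem exists_num_of_closure {A R B : Type u} [CommRing A] [CommRing R] [CommRing B] (φ : A →+* R)
    (res : R →+* B) (t : R) (g : A) (hg : φ g = t) (G : Set B)
    (hG : ∀ y ∈ G, ∃ (k : ℕ) (x : A), y * res t ^ k = res (φ x)) {z : B} (hz : z ∈ Subring.closure G) :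
    ∃ (k : ℕ) (x : A), z * res t ^ k = res (φ x) := by
  induction hz using Subring.closure_induction with
  | mem y hy => exact hG y hy
  | zero => exact ⟨0, 0, by simp⟩
  | one => exact ⟨0, 1, by simp⟩
  | add y w _ _ hy hw =>
    obtain ⟨k, x, hx⟩ := hy
    obtain ⟨l, x', hx'⟩ := hw
    refine ⟨k + l, x * g ^ l + x' * g ^ k, ?_⟩
    simp only [map_add, map_mul, map_pow, hg, ← hx, ← hx']
    ring
  | neg y _ hy =>
    obtain ⟨k, x, hx⟩ := hy
    exact ⟨k, -x, by simp only [map_neg, neg_mul, hx]⟩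
  | mul y w _ _ hy hw =>
    obtain ⟨k, x, hx⟩ := hy
    obtain ⟨l, x', hx'⟩ := hw
    refine ⟨k + l, x * x', ?_⟩
    simp only [map_mul, ← hx, ← hx']
    ring

theorem exists_num (hft : ∀ j, FTZ (D.obj j)) [QuasiSeparatedSpace c.pt]
    (hW : IsCompact ((e ⁻¹ᵁ U : c.pt.Opens) : Set c.pt)) (hU : IsAffineOpen U) (i : β.K) :
    ∀ (f : β.F) (z : Γ(D.obj (op i.1), (D.obj (op i.1)).basicOpen (β.tt i f))),
      ∃ (k : ℕ) (x : Γ(S, U) × Γ(D.obj (op i.1), β.W i)), x ∈ β.P i ∧
        z * algebraMap Γ(D.obj (op i.1), β.W i) _ (β.tt i f) ^ k =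
          algebraMap Γ(D.obj (op i.1), β.W i) _ x.2 := by
  haveI := fun f => β.isLocalization_tt hft i f
  intro f z
  obtain ⟨n, r, hr⟩ := IsLocalization.Away.surj (β.tt i f) z
  obtain ⟨m, b, hb⟩ := exists_lift e U hU hW f.1 (β.le_range f.1 f.2) (β.toLim i r)
  refine ⟨n + m, (b, β.tt i f ^ m * r), (β.mem_P i _).2 ?_, ?_⟩
  · rw [map_mul, map_pow, β.toLim_tt, hb]
  · rw [pow_add, ← mul_assoc, hr, map_mul, map_pow, mul_comm]

theorem exists_good (hft : ∀ j, FTZ (D.obj j)) [QuasiSeparatedSpace c.pt]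
    (hW : IsCompact ((e ⁻¹ᵁ U : c.pt.Opens) : Set c.pt)) (hU : IsAffineOpen U) (i : β.K)
    (s : Finset (Γ(S, U) × Γ(D.obj (op i.1), β.W i))) (hs : ∀ x ∈ s, x ∈ β.P i) :
    ∃ A, β.Good i A ∧ ∀ x ∈ s, x ∈ A := by
  classical
  haveI := fun f => β.isLocalization_tt hft i f
  have hgen := fun f : β.F => finiteType_sections (hft (op i.1)) (β.affine_tt i f)
  choose G hG using hgen
  have num := β.exists_num hft hW hU i
  choose k x hxP hxz using num
  let T : Finset (Γ(S, U) × Γ(D.obj (op i.1), β.W i)) :=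
    s ∪ Finset.univ.image (β.g i) ∪ Finset.univ.biUnion fun f => (G f).image (x f)
  refine ⟨Subring.closure (T : Set _), ?_, fun y hy => Subring.subset_closure (Finset.mem_union_left _ (Finset.mem_union_left _ hy))⟩
  refine ⟨?_, ⟨T, rfl⟩, fun f => ?_, fun f z => ?_⟩
  · refine Subring.closure_le.2 fun y hy => ?_
    rcases Finset.mem_union.1 hy with hy | hy
    · rcases Finset.mem_union.1 hy with hy | hy
      · exact hs y hy
      · obtain ⟨f, -, rfl⟩ := Finset.mem_image.1 hy
        exact β.g_mem i f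
    · obtain ⟨f, -, hy⟩ := Finset.mem_biUnion.1 hy
      obtain ⟨z, -, rfl⟩ := Finset.mem_image.1 hy
      exact hxP f z
  · exact Subring.subset_closure (Finset.mem_union_left _
      (Finset.mem_union_right _ (Finset.mem_image_of_mem _ (Finset.mem_univ f))))
  · have hg : β.g i f ∈ Subring.closure (T : Set _) := Subring.subset_closure (Finset.mem_union_left _
      (Finset.mem_union_right _ (Finset.mem_image_of_mem _ (Finset.mem_univ f))))
    let φA := (RingHom.snd Γ(S, U) Γ(D.obj (op i.1), β.W i)).comp (Subring.closure (T : Set _)).subtype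
    have key := exists_num_of_closure φA (algebraMap Γ(D.obj (op i.1), β.W i)
      Γ(D.obj (op i.1), (D.obj (op i.1)).basicOpen (β.tt i f))) (β.tt i f) ⟨β.g i f, hg⟩ rfl (G f : Set _)
    refine key (fun y hy => ⟨k f y, ⟨x f y, Subring.subset_closure (Finset.mem_union_right _
      (Finset.mem_biUnion.2 ⟨f, Finset.mem_univ _, Finset.mem_image_of_mem _ hy⟩))⟩, hxz f y⟩) ?_
    exact (hG f).symm ▸ Subring.mem_top z

/-- The second projection of a ring of pairs. -/
noncomputable def φ (i : β.K) (A : Subring (Γ(S, U) × Γ(D.obj (op i.1), β.W i))) :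
    A →+* Γ(D.obj (op i.1), β.W i) :=
  (RingHom.snd _ _).comp A.subtype

theorem isLocalization_good (hft : ∀ j, FTZ (D.obj j)) (hU : IsAffineOpen U) (i : β.K)
    {A : Subring (Γ(S, U) × Γ(D.obj (op i.1), β.W i))} (hA : β.Good i A) (f : β.F) :
    letI := ((algebraMap Γ(D.obj (op i.1), β.W i)
      Γ(D.obj (op i.1), (D.obj (op i.1)).basicOpen (β.tt i f))).comp (β.φ i A)).toAlgebra
    IsLocalization.Away (⟨β.g i f, hA.2.2.1 f⟩ : A)
      Γ(D.obj (op i.1), (D.obj (op i.1)).basicOpen (β.tt i f)) := by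
  let res := algebraMap Γ(D.obj (op i.1), β.W i) Γ(D.obj (op i.1), (D.obj (op i.1)).basicOpen (β.tt i f))
  haveI := β.isLocalization_tt hft i f
  letI := (res.comp (β.φ i A)).toAlgebra
  refine IsLocalization.Away.mk _ ?_ ?_ ?_
  · exact IsLocalization.Away.algebraMap_isUnit (β.tt i f)
  · intro z
    obtain ⟨k, x, hx⟩ := hA.2.2.2 f z
    exact ⟨k, x, hx⟩
  · intro x y hxy
    have h1 : res x.1.2 = res y.1.2 := hxy
    obtain ⟨m, hm⟩ := IsLocalization.Away.exists_of_eq (β.tt i f) h1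
    have h2 : (e.app U).hom (f.1 ^ m * x.1.1) = (e.app U).hom (f.1 ^ m * y.1.1) := by
      rw [map_mul, map_mul, map_pow, (β.mem_P i _).1 (hA.1 x.2), (β.mem_P i _).1 (hA.1 y.2), ← β.toLim_tt i f,
        ← map_pow, ← map_mul, ← map_mul, hm]
    haveI : IsIso (e.app (S.basicOpen f.1)) := e.isIso_app _ (β.le_range f.1 f.2)
    haveI := hU.isLocalization_basicOpen f.1
    have hnat : ∀ y, (e.app (S.basicOpen f.1)).hom (algebraMap Γ(S, U) Γ(S, S.basicOpen f.1) y) =
        (c.pt.presheaf.map (homOfLE (e.preimage_mono (S.basicOpen_le f.1))).op).hom ((e.app U).hom y) :=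
      fun y => congr($(e.naturality (homOfLE (S.basicOpen_le f.1)).op) y)
    have h3 : algebraMap Γ(S, U) Γ(S, S.basicOpen f.1) (f.1 ^ m * x.1.1) =
        algebraMap Γ(S, U) Γ(S, S.basicOpen f.1) (f.1 ^ m * y.1.1) :=
      (ConcreteCategory.bijective_of_isIso (e.app (S.basicOpen f.1))).1
        ((hnat _).trans ((congrArg _ h2).trans (hnat _).symm))
    obtain ⟨k, hk⟩ := IsLocalization.Away.exists_of_eq f.1 h3
    refine ⟨k + m, Subtype.ext (Prod.ext ?_ ?_)⟩
    · show f.1 ^ (k + m) * x.1.1 = f.1 ^ (k + m) * y.1.1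
      rw [pow_add, mul_assoc, mul_assoc, hk]
    · show β.tt i f ^ (k + m) * x.1.2 = β.tt i f ^ (k + m) * y.1.2
      rw [pow_add, mul_assoc, mul_assoc, hm]

theorem ftz_good (i : β.K) {A : Subring (Γ(S, U) × Γ(D.obj (op i.1), β.W i))} (hA : β.Good i A) :
    FTZ (Spec (CommRingCat.of A)) := by
  classical
  obtain ⟨s, rfl⟩ := hA.2.1
  refine ftz_spec _ (s.attach.image fun y => ⟨y.1, Subring.subset_closure y.2⟩) ?_
  refine top_unique fun x _ => ?_
  obtain ⟨x, hx⟩ := x
  induction hx using Subring.closure_induction with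
  | mem y hy => exact Subring.subset_closure (Finset.mem_coe.2 (Finset.mem_image.2 ⟨⟨y, hy⟩, Finset.mem_attach _ _, rfl⟩))
  | zero => exact Subring.zero_mem _
  | one => exact Subring.one_mem _
  | add y w _ _ hy hw => exact Subring.add_mem _ (hy trivial) (hw trivial)
  | neg y _ hy => exact Subring.neg_mem _ (hy trivial)
  | mul y w _ _ hy hw => exact Subring.mul_mem _ (hy trivial) (hw trivial)

theorem exists_chart_good (hft : ∀ j, FTZ (D.obj j)) (hU : IsAffineOpen U) (i : β.K)
    {A : Subring (Γ(S, U) × Γ(D.obj (op i.1), β.W i))} (hA : β.Good i A) :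
    ∃ _ : IsOpenImmersion ((β.W i).toSpecΓ ≫ Spec.map (CommRingCat.ofHom (β.φ i A))),
      ((β.W i).toSpecΓ ≫ Spec.map (CommRingCat.ofHom (β.φ i A))).opensRange =
        ⨆ f : β.F, PrimeSpectrum.basicOpen (⟨β.g i f, hA.2.2.1 f⟩ : A) :=
  chart_of_localizations (β.W i) (β.φ i A) (fun f => (⟨β.g i f, hA.2.2.1 f⟩ : A)) (fun f => β.affine_tt i f)
    (β.cover_tt i) (fun f => β.isLocalization_good hft hU i hA f)

end Groth.Agent.Approx.Extend.Base
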