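import Groth.Agent.Approx.Extend.System

/-!
# The limit of the extended system
-/

set_option autoImplicit false
set_option backward.isDefEq.respectTransparency false
set_option backward.isDefEq.respectTransparency.types false

universe u

open CategoryTheory CategoryTheory.Limits AlgebraicGeometry TopologicalSpace Opposite

namespace Groth.Agent.Approx.Extend

theorem appLE_map_apply {X Y : Scheme.{u}} (f : X ⟶ Y) {U : Y.Opens} {V V' : X.Opens} (e : V ≤ f ⁻¹ᵁ U)
    (h : V' ≤ V) (x : Γ(Y, U)) :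
    (X.presheaf.map (homOfLE h).op).hom ((f.appLE U V e).hom x) = (f.appLE U V' (h.trans e)).hom x :=
  congr($(f.appLE_map e (homOfLE h).op).hom x)

theorem map_map_cancel {X : Scheme.{u}} {V V' : X.Opens} (h : V' ≤ V) (h' : V ≤ V') (x : Γ(X, V)) :
    (X.presheaf.map (homOfLE h').op).hom ((X.presheaf.map (homOfLE h).op).hom x) = x := by
  rw [← CommRingCat.comp_apply, ← Functor.map_comp,
    show (homOfLE h).op ≫ (homOfLE h').op = 𝟙 _ from Subsingleton.elim _ _, CategoryTheory.Functor.map_id]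
  rfl

namespace Base

variable {I : Type u} [Preorder I] {D : Iᵒᵖ ⥤ Scheme.{u}} {c : Cone D} {S : Scheme.{u}} {e : c.pt ⟶ S}
  [IsOpenImmersion e] {U : S.Opens} (β : Base D c e U)

/-- The first projection of a ring of pairs. -/
noncomputable def fstRing (a : β.Idx) : a.A →+* Γ(S, U) := (RingHom.fst _ _).comp a.A.subtype

theorem fstRing_res {a b : β.Idx} (h : a ≤ b) (x : a.A) : β.fstRing b (β.res h x) = β.fstRing a x := rfl

/-- The system of rings. -/
noncomputable def rings : β.Idx ⥤ CommRingCat.{u} where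
  obj a := CommRingCat.of a.A
  map {a b} f := CommRingCat.ofHom (β.res f.le)
  map_id a := CommRingCat.hom_ext (RingHom.ext fun x => Subtype.ext (β.trP_self _ x.1))
  map_comp {a b d} f g :=
    CommRingCat.hom_ext (RingHom.ext fun x => Subtype.ext (β.trP_trP f.le.1 g.le.1 x.1).symm)

/-- The cocone of rings. -/
noncomputable def ringCocone : Cocone β.rings where
  pt := Γ(S, U)
  ι :=
  { app := fun a => CommRingCat.ofHom (β.fstRing a)
    naturality := fun a b f => CommRingCat.hom_ext (RingHom.ext fun x => rfl) }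

theorem directed_idx [IsDirected I (fun a b => a ≤ b)] [∀ {i j : Iᵒᵖ} (f : i ⟶ j), IsAffineHom (D.map f)]
    (hft : ∀ j, FTZ (D.obj j)) [QuasiSeparatedSpace c.pt]
    (hW : IsCompact ((e ⁻¹ᵁ U : c.pt.Opens) : Set c.pt)) (hU : IsAffineOpen U) :
    IsDirected β.Idx (fun a b => a ≤ b) := by
  classical
  refine ⟨fun a b => ?_⟩
  obtain ⟨k, ha, hb⟩ := exists_ge_ge a.i b.i
  obtain ⟨sa, hsa⟩ := a.good.2.1
  obtain ⟨sb, hsb⟩ := b.good.2.1
  have hsa' : ∀ x ∈ sa, x ∈ a.A := fun x hx => hsa ▸ Subring.subset_closure hx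
  have hsb' : ∀ x ∈ sb, x ∈ b.A := fun x hx => hsb ▸ Subring.subset_closure hx
  obtain ⟨A, hA, hsA⟩ := β.exists_good hft hW hU k (sa.image (β.trP ha) ∪ sb.image (β.trP hb)) (by
    intro y hy
    rcases Finset.mem_union.1 hy with hy | hy <;> obtain ⟨x, hx, rfl⟩ := Finset.mem_image.1 hy
    · exact β.trP_mem ha (a.good.1 (hsa' x hx))
    · exact β.trP_mem hb (b.good.1 (hsb' x hx)))
  refine ⟨⟨k, A, hA⟩, ⟨ha, fun x hx => ?_⟩, ⟨hb, fun x hx => ?_⟩⟩
  · rw [← hsa] at hx
    exact (Subring.closure_le (t := A.comap (β.trP ha))).2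
      (fun y hy => hsA _ (Finset.mem_union_left _ (Finset.mem_image_of_mem _ hy))) hx
  · rw [← hsb] at hx
    exact (Subring.closure_le (t := A.comap (β.trP hb))).2
      (fun y hy => hsA _ (Finset.mem_union_right _ (Finset.mem_image_of_mem _ hy))) hx

theorem exists_idx_ge [IsDirected I (fun a b => a ≤ b)] [∀ {i j : Iᵒᵖ} (f : i ⟶ j), IsAffineHom (D.map f)]
    (hft : ∀ j, FTZ (D.obj j)) [QuasiSeparatedSpace c.pt]
    (hW : IsCompact ((e ⁻¹ᵁ U : c.pt.Opens) : Set c.pt)) (hU : IsAffineOpen U) (i : I) :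
    ∃ a : β.Idx, i ≤ β.stage a := by
  obtain ⟨k, hk, hk1⟩ := exists_ge_ge i β.i1
  obtain ⟨A, hA, -⟩ := β.exists_good hft hW hU ⟨k, hk1⟩ ∅ (fun x hx => absurd hx (Finset.notMem_empty x))
  exact ⟨⟨⟨k, hk1⟩, A, hA⟩, hk⟩

theorem nonempty_isColimit_rings [IsDirected I (fun a b => a ≤ b)] (hc : IsLimit c)
    [∀ {i j : Iᵒᵖ} (f : i ⟶ j), IsAffineHom (D.map f)] [∀ i, CompactSpace (D.obj i)]
    (hft : ∀ j, FTZ (D.obj j)) [QuasiSeparatedSpace c.pt]
    (hW : IsCompact ((e ⁻¹ᵁ U : c.pt.Opens) : Set c.pt)) (hU : IsAffineOpen U) :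
    Nonempty (IsColimit β.ringCocone) := by
  classical
  haveI : ∀ i, QuasiSeparatedSpace (D.obj i) := fun i => quasiSeparatedSpace_of_ftz (hft i)
  haveI : Nonempty I := ⟨β.i1⟩
  haveI := β.directed_idx hft hW hU
  haveI : Nonempty β.Idx := ⟨(β.exists_idx_ge hft hW hU β.i1).choose⟩
  haveI : PreservesColimit β.rings (forget CommRingCat.{u}) := inferInstance
  haveI : ReflectsColimit β.rings (forget CommRingCat.{u}) := reflectsColimit_of_reflectsIsomorphisms _ _
  refine ⟨isColimitOfReflects (forget CommRingCat.{u}) (Types.FilteredColimit.isColimitOf' _ _ (fun (x : Γ(S, U)) => ?_)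
    fun a x y hxy => ?_)⟩
  · -- every function on the affine open comes from a stage
    obtain ⟨⟨k⟩, g, e', t, ht⟩ := exists_appLE_π_eq D c hc (i := op β.i1) β.compact
      (((c.pt.presheaf.map (homOfLE β.pre.le).op).hom ((e.app U).hom x)))
    have hk : β.i1 ≤ k := g.unop.le
    let i : β.K := ⟨k, hk⟩
    have hgi : D.map g = D.map (homOfLE i.2).op := congrArg D.map (Subsingleton.elim _ _)
    have key : ∀ (G : D.obj (op k) ⟶ D.obj (op β.i1)), D.map g = G →
        ∃ r : Γ(D.obj (op k), G ⁻¹ᵁ β.W1), ∀ e'' , ((c.π.app (op k)).appLE _ (e ⁻¹ᵁ U) e'').hom r = (e.app U).hom x := by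
      rintro G rfl
      refine ⟨t, fun e'' => ?_⟩
      have h2 := congrArg (c.pt.presheaf.map (homOfLE β.pre.ge).op).hom ht
      exact (appLE_map_apply (c.π.app (op k)) _ _ t).symm.trans (h2.trans (map_map_cancel _ _ _))
    obtain ⟨r, hr⟩ := key _ hgi
    obtain ⟨A, hA, hxA⟩ := β.exists_good hft hW hU i {(x, r)} (fun y hy => by
      rw [Finset.mem_singleton.1 hy]
      exact (β.mem_P i _).2 (hr (β.pre_π i).ge).symm)
    exact ⟨⟨i, A, hA⟩, ⟨(x, r), hxA _ (Finset.mem_singleton_self _)⟩, rfl⟩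
  · -- functions agreeing on the affine open agree at a stage
    let d : a.A := (show a.A from x) - (show a.A from y)
    have hd1 : d.1.1 = 0 := sub_eq_zero.2 hxy
    have hd2 : β.toLim a.i d.1.2 = 0 := by
      rw [← (β.mem_P a.i _).1 (a.good.1 d.2), hd1, map_zero]
    have h0 : ((c.π.app (op a.i.1)).app (β.W a.i)).hom d.1.2 = 0 := by
      have h2 := congrArg (c.pt.presheaf.map (homOfLE (β.pre_π a.i).le).op).hom hd2
      rw [map_zero] at h2
      refine Eq.trans ?_ ((appLE_map_apply (c.π.app (op a.i.1)) (β.pre_π a.i).ge (β.pre_π a.i).le d.1.2).symm.trans h2)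
      rw [Scheme.Hom.appLE_eq_app]
    obtain ⟨⟨k⟩, g, hg⟩ := exists_app_map_eq_zero_of_isLimit D c hc (β.isCompact_W a.i) d.1.2 h0
    have hk : a.i.1 ≤ k := g.unop.le
    let i : β.K := ⟨k, a.i.2.trans hk⟩
    have hai : a.i ≤ i := hk
    have htr : β.tr hai d.1.2 = 0 := by
      have key : ∀ (G : D.obj (op k) ⟶ D.obj (op a.i.1)), D.map g = G → ∀ e'',
          (G.appLE (β.W a.i) (β.W i) e'').hom d.1.2 = 0 := by
        rintro G rfl e''
        rw [Scheme.Hom.appLE, CommRingCat.comp_apply, hg, map_zero]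
      exact key _ (congrArg D.map (Subsingleton.elim _ _)) _
    obtain ⟨sa, hsa⟩ := a.good.2.1
    have hsa' : ∀ y ∈ sa, y ∈ a.A := fun y hy => hsa ▸ Subring.subset_closure hy
    obtain ⟨A, hA, hsA⟩ := β.exists_good hft hW hU i (sa.image (β.trP hai)) (fun z hz => by
      obtain ⟨w, hw, rfl⟩ := Finset.mem_image.1 hz
      exact β.trP_mem hai (a.good.1 (hsa' w hw)))
    have hab : a ≤ ⟨i, A, hA⟩ := ⟨hai, fun z hz => (Subring.closure_le (t := A.comap (β.trP hai))).2
      (fun w hw => hsA _ (Finset.mem_image_of_mem _ hw)) (hsa ▸ hz : z ∈ Subring.closure (sa : Set _))⟩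
    refine ⟨⟨i, A, hA⟩, homOfLE hab, Subtype.ext (sub_eq_zero.1 ?_)⟩
    show β.trP hai (show a.A from x).1 - β.trP hai (show a.A from y).1 = 0
    rw [← map_sub]
    exact Prod.ext hd1 htr

/-- The projection to the affine chart. -/
noncomputable def toChart (a : β.Idx) : (U : Scheme.{u}) ⟶ Spec (CommRingCat.of a.A) :=
  U.toSpecΓ ≫ Spec.map (CommRingCat.ofHom (β.fstRing a))

theorem toChart_res {a b : β.Idx} (h : a ≤ b) :
    β.toChart b ≫ Spec.map (CommRingCat.ofHom (β.res h)) = β.toChart a := by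
  rw [toChart, toChart, Category.assoc, ← Spec.map_comp]
  rfl

/-- The cone of affine charts. -/
noncomputable def chartCone : Cone (β.rings.op ⋙ Scheme.Spec) where
  pt := U
  π :=
  { app := fun a => β.toChart a.unop
    naturality := fun a b f =>
      (Category.id_comp _).trans (β.toChart_res (show b.unop ≤ a.unop from f.unop.le)).symm }

theorem nonempty_isLimit_chartCone (hU : IsAffineOpen U) (hR : IsColimit β.ringCocone) [IsDirected β.Idx (fun a b => a ≤ b)]
    [Nonempty β.Idx] : Nonempty (IsLimit β.chartCone) := by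
  have hB0 : IsLimit (Scheme.Spec.mapCone β.ringCocone.op) := isLimitOfPreserves Scheme.Spec hR.op
  haveI : IsIso U.toSpecΓ := by
    haveI : IsAffine (U : Scheme.{u}) := hU
    rw [← hU.isoSpec_hom]; infer_instance
  exact ⟨hB0.ofIsoLimit (Cone.ext (asIso U.toSpecΓ) fun a => rfl).symm⟩

variable [hψ : ∀ a : β.Idx, IsOpenImmersion (β.ψ a)] (hcov : e.opensRange ⊔ U = ⊤)

include hcov in
theorem exists_proj (a : β.Idx) : ∃ g : S ⟶ β.obj a,
    e ≫ g = c.π.app (op (β.stage a)) ≫ β.inV a ∧ U.ι ≫ g = β.toChart a ≫ β.inU a := by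
  have hcov' : e.opensRange ⊔ U.ι.opensRange = ⊤ := by rw [Scheme.Opens.opensRange_ι]; exact hcov
  refine exists_glue2 e U.ι hcov' _ _ ?_
  rw [← cancel_epi (isPullback_morphismRestrict e U).flip.isoPullback.hom]
  rw [IsPullback.isoPullback_hom_fst_assoc, IsPullback.isoPullback_hom_snd_assoc]
  have h1 : (e ⁻¹ᵁ U).ι ≫ c.π.app (op (β.stage a)) =
      (c.π.app (op (β.stage a))).resLE (β.W a.i) (e ⁻¹ᵁ U) (β.pre_π a.i).ge ≫ (β.W a.i).ι :=
    (Scheme.Hom.resLE_comp_ι _ _).symm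
  have h2 : (e ∣_ U) ≫ U.toSpecΓ = (e ⁻¹ᵁ U).toSpecΓ ≫ Spec.map (e.app U) := by
    rw [Scheme.Hom.app_eq_appLE, Scheme.Opens.toSpecΓ_SpecMap_appLE, Scheme.Hom.resLE_eq_morphismRestrict]
  rw [← Category.assoc (e ⁻¹ᵁ U).ι, h1, Category.assoc, β.glue_eq, toChart, ψ]
  simp only [← Category.assoc]
  congr 1
  rw [h2, ← Scheme.Opens.toSpecΓ_SpecMap_appLE]
  simp only [Category.assoc, ← Spec.map_comp]
  congr 2
  exact CommRingCat.hom_ext (RingHom.ext fun x => ((β.mem_P a.i _).1 (a.good.1 x.2)).symm)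

/-- The projection of the extended scheme. -/
noncomputable def proj (a : β.Idx) : S ⟶ β.obj a := (β.exists_proj hcov a).choose

theorem e_proj (a : β.Idx) : e ≫ β.proj hcov a = c.π.app (op (β.stage a)) ≫ β.inV a :=
  (β.exists_proj hcov a).choose_spec.1

theorem ι_proj (a : β.Idx) : U.ι ≫ β.proj hcov a = β.toChart a ≫ β.inU a :=
  (β.exists_proj hcov a).choose_spec.2

theorem proj_map {a b : β.Idx} (h : a ≤ b) : β.proj hcov b ≫ β.map h = β.proj hcov a := by
  refine (cover2 e U.ι (by rw [Scheme.Opens.opensRange_ι]; exact hcov)).hom_ext _ _ ?_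
  rintro ⟨_ | _⟩
  · show U.ι ≫ β.proj hcov b ≫ β.map h = U.ι ≫ β.proj hcov a
    rw [← Category.assoc, β.ι_proj, Category.assoc, β.inU_map, ← Category.assoc, β.toChart_res, β.ι_proj]
  · show e ≫ β.proj hcov b ≫ β.map h = e ≫ β.proj hcov a
    rw [← Category.assoc, β.e_proj, Category.assoc, β.inV_map, ← Category.assoc, c.w, β.e_proj]

/-- The cone of the extended system. -/
noncomputable def cone : Cone β.sys where
  pt := S
  π :=
  { app := fun a => β.proj hcov a.unop
    naturality := fun a b f =>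
      (Category.id_comp _).trans (β.proj_map hcov (show b.unop ≤ a.unop from f.unop.le)).symm }

theorem isPullback_e (hr : β.RangeEq) (a : β.Idx) :
    IsPullback (c.π.app (op (β.stage a))) e (β.inV a) (β.proj hcov a) := by
  refine IsOpenImmersion.isPullback _ _ _ _ (β.e_proj hcov a) (le_antisymm (fun x hx => ?_) ?_)
  · obtain ⟨v, hv⟩ := hx
    rcases (show x ∈ e.opensRange ⊔ U from hcov.symm ▸ trivial) with hx' | hxU
    · exact hx'
    · obtain ⟨u, rfl⟩ : x ∈ Set.range U.ι := by rw [Scheme.Opens.range_ι]; exact hxU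
      rw [← Scheme.Hom.comp_apply U.ι (β.proj hcov a), β.ι_proj, Scheme.Hom.comp_apply] at hv
      obtain ⟨z, -, hz⟩ := β.exists_of_inV_eq_inU a hv
      have hu : β.toChart a u ∈ (β.ψ a).opensRange := ⟨z, hz⟩
      rw [hr a] at hu
      obtain ⟨f, hf⟩ := Opens.mem_iSup.1 hu
      have h3 : u ∈ U.toSpecΓ ⁻¹ᵁ PrimeSpectrum.basicOpen f.1 := hf
      rw [Scheme.Opens.toSpecΓ_preimage_basicOpen] at h3
      exact β.le_range f.1 f.2 h3
  · rintro _ ⟨v, rfl⟩
    refine ⟨c.π.app (op (β.stage a)) v, ?_⟩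
    rw [← Scheme.Hom.comp_apply, ← β.e_proj hcov a, Scheme.Hom.comp_apply]

theorem isPullback_U (a : β.Idx) : IsPullback (β.toChart a) U.ι (β.inU a) (β.proj hcov a) := by
  refine IsOpenImmersion.isPullback _ _ _ _ (β.ι_proj hcov a) (le_antisymm (fun x hx => ?_) ?_)
  · obtain ⟨y, hy⟩ := hx
    rcases (show x ∈ e.opensRange ⊔ U from hcov.symm ▸ trivial) with ⟨v, rfl⟩ | hxU
    · rw [← Scheme.Hom.comp_apply e (β.proj hcov a), β.e_proj, Scheme.Hom.comp_apply] at hy
      obtain ⟨z, hz, -⟩ := β.exists_of_inV_eq_inU a hy.symm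
      have hv : v ∈ c.π.app (op a.i.1) ⁻¹ᵁ β.W a.i := by
        show c.π.app (op a.i.1) v ∈ β.W a.i
        rw [show c.π.app (op a.i.1) v = (β.W a.i).ι z from hz.symm]
        exact z.2
      rw [β.pre_π a.i] at hv
      exact ⟨⟨e v, hv⟩, rfl⟩
    · rw [Scheme.Opens.opensRange_ι]; exact hxU
  · rintro _ ⟨v, rfl⟩
    refine ⟨β.toChart a v, ?_⟩
    rw [← Scheme.Hom.comp_apply, ← β.ι_proj hcov a, Scheme.Hom.comp_apply]

theorem nonempty_isLimit_cone [IsDirected I (fun a b => a ≤ b)] (hc : IsLimit c)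
    [∀ {i j : Iᵒᵖ} (f : i ⟶ j), IsAffineHom (D.map f)] [∀ i, CompactSpace (D.obj i)]
    (hft : ∀ j, FTZ (D.obj j)) [QuasiSeparatedSpace c.pt]
    (hW : IsCompact ((e ⁻¹ᵁ U : c.pt.Opens) : Set c.pt)) (hU : IsAffineOpen U) (hr : β.RangeEq) :
    Nonempty (IsLimit (β.cone hcov)) := by
  haveI : Nonempty I := ⟨β.i1⟩
  haveI := β.directed_idx hft hW hU
  haveI : Nonempty β.Idx := ⟨(β.exists_idx_ge hft hW hU β.i1).choose⟩
  haveI : β.stage_mono.functor.Final := by
    rw [Monotone.final_functor_iff]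
    exact β.exists_idx_ge hft hW hU
  let A := β.stage_mono.functor.op ⋙ D
  let cA := c.whisker β.stage_mono.functor.op
  have hA : IsLimit cA := (Functor.Initial.isLimitWhiskerEquiv β.stage_mono.functor.op _).symm hc
  let B := β.rings.op ⋙ Scheme.Spec
  obtain ⟨hR⟩ := β.nonempty_isColimit_rings hc hft hW hU
  let cB : Cone B := β.chartCone
  obtain ⟨hB⟩ := β.nonempty_isLimit_chartCone hU hR
  let ιA : A ⟶ β.sys :=
    { app := fun a => β.inV a.unop
      naturality := fun a b f => (β.inV_map (show b.unop ≤ a.unop from f.unop.le)).symm }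
  let ιB : B ⟶ β.sys :=
    { app := fun a => β.inU a.unop
      naturality := fun a b f => (β.inU_map (show b.unop ≤ a.unop from f.unop.le)).symm }
  haveI : ∀ a, IsOpenImmersion (ιA.app a) := fun a => inferInstanceAs (IsOpenImmersion (β.inV a.unop))
  haveI : ∀ a, IsOpenImmersion (ιB.app a) := fun a => inferInstanceAs (IsOpenImmersion (β.inU a.unop))
  haveI : IsOpenImmersion (U.ι : cB.pt ⟶ (β.cone hcov).pt) := inferInstanceAs (IsOpenImmersion U.ι)
  have hcov2 : e.opensRange ⊔ U.ι.opensRange = ⊤ := by rw [Scheme.Opens.opensRange_ι]; exact hcov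
  haveI : IsOpenImmersion (e : cA.pt ⟶ (β.cone hcov).pt) := inferInstanceAs (IsOpenImmersion e)
  have h0 := nonempty_isLimit_two ιA ιB (cA := cA) (cB := cB) (c := β.cone hcov) e U.ι
    (fun a => β.isPullback_e hcov hr a.unop) (fun a => β.isPullback_U hcov a.unop)
  have h1 := h0 (fun {a b} f => β.isPullback_inV hr (show b.unop ≤ a.unop from f.unop.le))
    (fun {a b} f => β.isPullback_inU (show b.unop ≤ a.unop from f.unop.le))
  exact h1 hA hB hcov2 (fun a => β.inV_sup_inU a.unop)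

end Base

end Groth.Agent.Approx.Extend
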