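import Groth.Agent.Approx.Extend.Good

/-!
# The extended system
-/

set_option autoImplicit false
set_option backward.isDefEq.respectTransparency false
set_option backward.isDefEq.respectTransparency.types false

universe u

open CategoryTheory CategoryTheory.Limits AlgebraicGeometry TopologicalSpace Opposite

namespace Groth.Agent.Approx.Extend.Base

variable {I : Type u} [Preorder I] {D : Iᵒᵖ ⥤ Scheme.{u}} {c : Cone D} {S : Scheme.{u}} {e : c.pt ⟶ S}
  [IsOpenImmersion e] {U : S.Opens} (β : Base D c e U)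

/-- Indices of the extended system. -/
structure Idx where
  /-- the stage -/
  i : β.K
  /-- the ring -/
  A : Subring (Γ(S, U) × Γ(D.obj (op i.1), β.W i))
  good : β.Good i A

theorem trP_self {i : β.K} (h : i ≤ i) (x : Γ(S, U) × Γ(D.obj (op i.1), β.W i)) : β.trP h x = x :=
  Prod.ext rfl (β.tr_self h x.2)

theorem trP_trP {i k l : β.K} (h : i ≤ k) (h' : k ≤ l) (x : Γ(S, U) × Γ(D.obj (op i.1), β.W i)) :
    β.trP h' (β.trP h x) = β.trP (h.trans h') x :=
  Prod.ext rfl (β.tr_tr h h' x.2)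

instance : Preorder β.Idx where
  le a b := ∃ h : a.i ≤ b.i, ∀ x ∈ a.A, β.trP h x ∈ b.A
  le_refl a := ⟨le_rfl, fun x hx => by rw [β.trP_self]; exact hx⟩
  le_trans a b d h h' := ⟨h.1.trans h'.1, fun x hx => by
    rw [← β.trP_trP h.1 h'.1]; exact h'.2 _ (h.2 x hx)⟩

/-- The stage of an index in the original system. -/
abbrev stage (a : β.Idx) : I := a.i.1

theorem stage_mono : Monotone β.stage := fun _ _ h => h.1

/-- The transition of rings. -/
noncomputable def res {a b : β.Idx} (h : a ≤ b) : a.A →+* b.A :=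
  ((β.trP h.1).comp a.A.subtype).codRestrict b.A fun x => h.2 x.1 x.2

theorem res_val {a b : β.Idx} (h : a ≤ b) (x : a.A) : (β.res h x).1 = β.trP h.1 x.1 := rfl

/-- The chart of an index. -/
noncomputable def ψ (a : β.Idx) : (β.W a.i : Scheme.{u}) ⟶ Spec (CommRingCat.of a.A) :=
  (β.W a.i).toSpecΓ ≫ Spec.map (CommRingCat.ofHom (β.φ a.i a.A))

/-- The transition of opens. -/
noncomputable def resW {a b : β.Idx} (h : a ≤ b) : (β.W b.i : Scheme.{u}) ⟶ β.W a.i :=
  (D.map (homOfLE (show a.i.1 ≤ b.i.1 from h.1)).op).resLE (β.W a.i) (β.W b.i) (β.pre_W h.1).ge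

theorem resW_ι {a b : β.Idx} (h : a ≤ b) :
    β.resW h ≫ (β.W a.i).ι = (β.W b.i).ι ≫ D.map (homOfLE (β.stage_mono h)).op :=
  Scheme.Hom.resLE_comp_ι _ _

theorem ψ_res {a b : β.Idx} (h : a ≤ b) :
    β.ψ b ≫ Spec.map (CommRingCat.ofHom (β.res h)) = β.resW h ≫ β.ψ a := by
  have e1 : CommRingCat.ofHom (β.res h) ≫ CommRingCat.ofHom (β.φ b.i b.A) =
      CommRingCat.ofHom (β.φ a.i a.A) ≫
        (D.map (homOfLE (show a.i.1 ≤ b.i.1 from h.1)).op).appLE (β.W a.i) (β.W b.i) (β.pre_W h.1).ge :=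
    CommRingCat.hom_ext (RingHom.ext fun x => rfl)
  rw [ψ, ψ, Category.assoc, ← Spec.map_comp, e1, Spec.map_comp, ← Category.assoc,
    Scheme.Opens.toSpecΓ_SpecMap_appLE, Category.assoc]
  rfl

variable [hψ : ∀ a : β.Idx, IsOpenImmersion (β.ψ a)]

/-- The schemes of the extended system. -/
noncomputable def obj (a : β.Idx) : Scheme.{u} := pushout (β.W a.i).ι (β.ψ a)

/-- The piece from the original system. -/
noncomputable def inV (a : β.Idx) : D.obj (op (β.stage a)) ⟶ β.obj a := pushout.inl (β.W a.i).ι (β.ψ a)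

/-- The affine piece. -/
noncomputable def inU (a : β.Idx) : Spec (CommRingCat.of a.A) ⟶ β.obj a := pushout.inr (β.W a.i).ι (β.ψ a)

theorem glue_eq (a : β.Idx) : (β.W a.i).ι ≫ β.inV a = β.ψ a ≫ β.inU a := pushout.condition

instance (a : β.Idx) : IsOpenImmersion (β.inV a) := inferInstanceAs (IsOpenImmersion (pushout.inl _ _))

instance (a : β.Idx) : IsOpenImmersion (β.inU a) := inferInstanceAs (IsOpenImmersion (pushout.inr _ _))

theorem inV_sup_inU (a : β.Idx) : (β.inV a).opensRange ⊔ (β.inU a).opensRange = ⊤ :=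
  SetLike.coe_injective (by simpa using! pushout_range (β.W a.i).ι (β.ψ a))

theorem exists_of_inV_eq_inU (a : β.Idx) {x : D.obj (op (β.stage a))} {y : Spec (CommRingCat.of a.A)}
    (h : β.inV a x = β.inU a y) : ∃ z, (β.W a.i).ι z = x ∧ β.ψ a z = y :=
  pushout_inl_eq_inr (β.W a.i).ι (β.ψ a) h

/-- The transitions of the extended system. -/
noncomputable def map {a b : β.Idx} (h : a ≤ b) : β.obj b ⟶ β.obj a :=
  pushout.desc (D.map (homOfLE (β.stage_mono h)).op ≫ β.inV a) (Spec.map (CommRingCat.ofHom (β.res h)) ≫ β.inU a) (by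
    rw [← Category.assoc, ← Category.assoc, ← β.resW_ι h, β.ψ_res h, Category.assoc, Category.assoc, β.glue_eq])

theorem inV_map {a b : β.Idx} (h : a ≤ b) :
    β.inV b ≫ β.map h = D.map (homOfLE (β.stage_mono h)).op ≫ β.inV a :=
  pushout.inl_desc _ _ _

theorem inU_map {a b : β.Idx} (h : a ≤ b) :
    β.inU b ≫ β.map h = Spec.map (CommRingCat.ofHom (β.res h)) ≫ β.inU a :=
  pushout.inr_desc _ _ _

theorem hom_ext {a : β.Idx} {T : Scheme.{u}} {x y : β.obj a ⟶ T} (h1 : β.inV a ≫ x = β.inV a ≫ y)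
    (h2 : β.inU a ≫ x = β.inU a ≫ y) : x = y :=
  pushout.hom_ext h1 h2

/-- The extended system. -/
noncomputable def sys : β.Idxᵒᵖ ⥤ Scheme.{u} where
  obj a := β.obj a.unop
  map {a b} f := β.map (show b.unop ≤ a.unop from f.unop.le)
  map_id a := by
    refine β.hom_ext ?_ ?_
    · rw [β.inV_map, show (homOfLE _).op = 𝟙 (op (β.stage a.unop)) from Subsingleton.elim _ _, D.map_id,
        Category.id_comp, Category.comp_id]
    · have e1 : CommRingCat.ofHom (β.res (le_refl a.unop)) = 𝟙 _ :=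
        CommRingCat.hom_ext (RingHom.ext fun x => Subtype.ext (β.trP_self _ x.1))
      rw [β.inU_map, e1, Spec.map_id, Category.id_comp, Category.comp_id]
  map_comp {a b d} f g := by
    refine β.hom_ext ?_ ?_
    · rw [← Category.assoc, β.inV_map, β.inV_map, Category.assoc, β.inV_map, ← Category.assoc, ← D.map_comp]
      rfl
    · have hab : b.unop ≤ a.unop := f.unop.le
      have hbd : d.unop ≤ b.unop := g.unop.le
      have e1 : CommRingCat.ofHom (β.res (hbd.trans hab)) =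
          CommRingCat.ofHom (β.res hbd) ≫ CommRingCat.ofHom (β.res hab) :=
        CommRingCat.hom_ext (RingHom.ext fun x => Subtype.ext (β.trP_trP hbd.1 hab.1 x.1).symm)
      rw [← Category.assoc, β.inU_map, β.inU_map, Category.assoc, β.inU_map, e1, Spec.map_comp, Category.assoc]

/-- The range of the charts. -/
def RangeEq : Prop :=
  ∀ a : β.Idx, (β.ψ a).opensRange = ⨆ f : β.F, PrimeSpectrum.basicOpen (⟨β.g a.i f, a.good.2.2.1 f⟩ : a.A)

theorem mem_ψ_range (hr : β.RangeEq) {a b : β.Idx} (h : a ≤ b) (y : Spec (CommRingCat.of b.A))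
    (hy : Spec.map (CommRingCat.ofHom (β.res h)) y ∈ (β.ψ a).opensRange) : y ∈ (β.ψ b).opensRange := by
  rw [hr a] at hy
  obtain ⟨f, hf⟩ := Opens.mem_iSup.1 hy
  rw [hr b]
  refine Opens.mem_iSup.2 ⟨f, ?_⟩
  have e1 : β.res h (⟨β.g a.i f, a.good.2.2.1 f⟩ : a.A) = ⟨β.g b.i f, b.good.2.2.1 f⟩ :=
    Subtype.ext (β.trP_g h.1 f)
  have h2 : y ∈ PrimeSpectrum.basicOpen (β.res h (⟨β.g a.i f, a.good.2.2.1 f⟩ : a.A)) := hf
  rw [e1] at h2
  exact h2

theorem isPullback_inV (hr : β.RangeEq) {a b : β.Idx} (h : a ≤ b) :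
    IsPullback (D.map (homOfLE (β.stage_mono h)).op) (β.inV b) (β.inV a) (β.map h) := by
  refine IsOpenImmersion.isPullback _ _ _ _ (β.inV_map h) (le_antisymm (fun x hx => ?_) ?_)
  · obtain ⟨v, hv⟩ := hx
    rcases (show x ∈ (β.inV b).opensRange ⊔ (β.inU b).opensRange from (β.inV_sup_inU b).symm ▸ trivial) with
      hx' | ⟨y, rfl⟩
    · exact hx'
    · rw [← Scheme.Hom.comp_apply (β.inU b) (β.map h), β.inU_map, Scheme.Hom.comp_apply] at hv
      obtain ⟨z, -, hz⟩ := β.exists_of_inV_eq_inU a hv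
      obtain ⟨w, hw⟩ := β.mem_ψ_range hr h y ⟨z, hz⟩
      refine ⟨(β.W b.i).ι w, ?_⟩
      rw [← hw, ← Scheme.Hom.comp_apply, β.glue_eq, Scheme.Hom.comp_apply]
  · rintro _ ⟨v, rfl⟩
    refine ⟨D.map (homOfLE (β.stage_mono h)).op v, ?_⟩
    rw [← Scheme.Hom.comp_apply, ← β.inV_map, Scheme.Hom.comp_apply]

theorem isPullback_inU {a b : β.Idx} (h : a ≤ b) :
    IsPullback (Spec.map (CommRingCat.ofHom (β.res h))) (β.inU b) (β.inU a) (β.map h) := by
  refine IsOpenImmersion.isPullback _ _ _ _ (β.inU_map h) (le_antisymm (fun x hx => ?_) ?_)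
  · obtain ⟨y, hy⟩ := hx
    rcases (show x ∈ (β.inV b).opensRange ⊔ (β.inU b).opensRange from (β.inV_sup_inU b).symm ▸ trivial) with
      ⟨v, rfl⟩ | hx'
    · rw [← Scheme.Hom.comp_apply (β.inV b) (β.map h), β.inV_map, Scheme.Hom.comp_apply] at hy
      obtain ⟨z, hz, -⟩ := β.exists_of_inV_eq_inU a hy.symm
      have hv : v ∈ D.map (homOfLE (show a.i.1 ≤ b.i.1 from h.1)).op ⁻¹ᵁ β.W a.i := by
        show D.map (homOfLE (β.stage_mono h)).op v ∈ β.W a.i
        rw [← hz]
        exact z.2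
      rw [β.pre_W h.1] at hv
      refine ⟨β.ψ b ⟨v, hv⟩, ?_⟩
      rw [← Scheme.Hom.comp_apply, ← β.glue_eq, Scheme.Hom.comp_apply]
      rfl
    · exact hx'
  · rintro _ ⟨v, rfl⟩
    refine ⟨Spec.map (CommRingCat.ofHom (β.res h)) v, ?_⟩
    rw [← Scheme.Hom.comp_apply, ← β.inU_map, Scheme.Hom.comp_apply]

theorem isAffineHom_map [∀ {i j : Iᵒᵖ} (f : i ⟶ j), IsAffineHom (D.map f)] (hr : β.RangeEq) {a b : β.Idx}
    (h : a ≤ b) : IsAffineHom (β.map h) :=
  isAffineHom_of_two (β.map h) (β.inV a) (β.inU a) (β.inV_sup_inU a) (β.isPullback_inV hr h) (β.isPullback_inU h)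

theorem compactSpace_obj [∀ i, CompactSpace (D.obj i)] (a : β.Idx) : CompactSpace (β.obj a) := by
  refine ⟨?_⟩
  have e : (Set.range (β.inV a) ∪ Set.range (β.inU a)) = Set.univ :=
    congrArg ((↑) : (β.obj a).Opens → Set (β.obj a)) (β.inV_sup_inU a)
  rw [← e]
  exact (isCompact_range (β.inV a).continuous).union (isCompact_range (β.inU a).continuous)

theorem ftz_obj [∀ {i j : Iᵒᵖ} (f : i ⟶ j), IsAffineHom (D.map f)] (hft : ∀ i, FTZ (D.obj i)) (a : β.Idx) : FTZ (β.obj a) := by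
  show LocallyOfFiniteType _
  refine IsZariskiLocalAtSource.of_openCover (P := @LocallyOfFiniteType)
    (cover2 (β.inV a) (β.inU a) (β.inV_sup_inU a)) ?_
  rintro ⟨_ | _⟩
  · show LocallyOfFiniteType (β.inU a ≫ _)
    rw [specULiftZIsTerminal.hom_ext (β.inU a ≫ _) (IsTerminal.from specULiftZIsTerminal _)]
    exact β.ftz_good a.i a.good
  · show LocallyOfFiniteType (β.inV a ≫ _)
    rw [specULiftZIsTerminal.hom_ext (β.inV a ≫ _) (IsTerminal.from specULiftZIsTerminal _)]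
    exact hft _

end Groth.Agent.Approx.Extend.Base
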